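import Groth.Agent.TensorMod.Restrict
import Groth.Agent.QCohBase.Criteria
import Groth.Prelude.Def_FlatMod2
import Groth.Prelude.Def_PicLoc
import Mathlib.Algebra.Category.ModuleCat.Sheaf.LocallyFree

/-!
# Invertible modules: tensor products, restriction, quasi-coherence
-/

universe u

open CategoryTheory CategoryTheory.Limits AlgebraicGeometry TopologicalSpace

namespace Groth.Agent.TensorMod

variable {X Y : Scheme.{u}}

/-- restriction to a smaller open of a restriction -/
noncomputable def restrictLEIso {U V : X.Opens} (h : V ≤ U) (M : X.Modules) :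
    (M.restrict U.ι).restrict (X.homOfLE h) ≅ M.restrict V.ι :=
  ((Scheme.Modules.restrictFunctorComp (X.homOfLE h) U.ι).symm ≪≫
    Scheme.Modules.restrictFunctorCongr (Scheme.homOfLE_ι X h)).app M

/-- a trivialisation restricts to smaller opens -/
noncomputable def trivRestrict {U V : X.Opens} (h : V ≤ U) {M : X.Modules}
    (e : M.restrict U.ι ≅ Coh.structureModule (U : Scheme.{u})) :
    M.restrict V.ι ≅ Coh.structureModule (V : Scheme.{u}) :=
  (restrictLEIso h M).symm ≪≫ (Scheme.Modules.restrictFunctor (X.homOfLE h)).mapIso e ≪≫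
    Scheme.Modules.restrictUnitIso (X.homOfLE h)

/-- invertibility is invariant under isomorphism -/
theorem isInvertible_of_iso {L L' : X.Modules} (e : L ≅ L') (hL : PicF.IsInvertible L) :
    PicF.IsInvertible L' := fun x => by
  obtain ⟨U, hx, ⟨t⟩⟩ := hL x
  exact ⟨U, hx, ⟨(Scheme.Modules.restrictFunctor U.ι).mapIso e.symm ≪≫ t⟩⟩

/-- trivialising neighbourhoods can be taken inside any open -/
theorem exists_triv_le {L : X.Modules} (hL : PicF.IsInvertible L) {x : X} {W : X.Opens} (hx : x ∈ W) :
    ∃ V : X.Opens, x ∈ V ∧ V ≤ W ∧ Nonempty (L.restrict V.ι ≅ Coh.structureModule (V : Scheme.{u})) := by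
  obtain ⟨U, hxU, ⟨t⟩⟩ := hL x
  exact ⟨U ⊓ W, ⟨hxU, hx⟩, inf_le_right, ⟨trivRestrict inf_le_left t⟩⟩

/-- trivialising neighbourhoods can be taken affine inside any open -/
theorem exists_affine_triv_le {L : X.Modules} (hL : PicF.IsInvertible L) {x : X} {W : X.Opens}
    (hx : x ∈ W) :
    ∃ V : X.Opens, IsAffineOpen V ∧ x ∈ V ∧ V ≤ W ∧
      Nonempty (L.restrict V.ι ≅ Coh.structureModule (V : Scheme.{u})) := by
  obtain ⟨U, hxU, ⟨t⟩⟩ := hL x
  obtain ⟨V, hV, hxV, hle⟩ := Opens.isBasis_iff_nbhd.1 X.isBasis_affineOpens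
    (U := U ⊓ W) (show x ∈ U ⊓ W from ⟨hxU, hx⟩)
  exact ⟨V, hV, hxV, hle.trans inf_le_right, ⟨trivRestrict (hle.trans inf_le_left) t⟩⟩

/-- restriction to an open of an invertible module -/
theorem isInvertible_restrict {L : Y.Modules} (hL : PicF.IsInvertible L) (f : X ⟶ Y)
    [IsOpenImmersion f] : PicF.IsInvertible (L.restrict f) :=
  isInvertible_of_iso ((Scheme.Modules.restrictFunctorIsoPullback f).app L).symm
    (PicLoc.isInvertible_pullback f hL)

/-- the tensor product of invertible modules is invertible -/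
theorem isInvertible_tensorMod {L M : X.Modules} (hL : PicF.IsInvertible L)
    (hM : PicF.IsInvertible M) : PicF.IsInvertible (CohB1.tensorMod L M) := fun x => by
  obtain ⟨U, hx, ⟨s⟩⟩ := hL x
  obtain ⟨V, hxV, hVU, ⟨t⟩⟩ := exists_triv_le hM hx
  exact ⟨V, hxV, ⟨restrictTensorIso V.ι L M ≪≫ tensorIso (trivRestrict hVU s) t ≪≫
    unitLeftIso _⟩⟩

/-- tensor powers of invertible modules are invertible -/
theorem isInvertible_tensorPow {L : X.Modules} (hL : PicF.IsInvertible L) :
    ∀ n : ℕ, PicF.IsInvertible (CohB1.tensorPow L n)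
  | 0 => PicLoc.isInvertible_structureModule X
  | n + 1 => isInvertible_tensorMod (isInvertible_tensorPow hL n) hL

/-- the free module of rank one is the structure sheaf -/
noncomputable def freeOneIso (X : Scheme.{u}) : FlatMod.freeMod X 1 ≅ Coh.structureModule X :=
  coproductUniqueIso fun _ : Fin 1 => Coh.structureModule X

/-- invertible modules are finite locally free of rank one -/
theorem isFinLocFreeOfRank_one {L : X.Modules} (hL : PicF.IsInvertible L) :
    FlatMod.IsFinLocFreeOfRank 1 L := fun x => by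
  obtain ⟨U, hx, ⟨t⟩⟩ := hL x
  exact ⟨U, hx, ⟨t ≪≫ (freeOneIso _).symm⟩⟩

/-- finite locally free of rank one means invertible -/
theorem isInvertible_iff_isFinLocFreeOfRank_one {L : X.Modules} :
    PicF.IsInvertible L ↔ FlatMod.IsFinLocFreeOfRank 1 L := by
  refine ⟨isFinLocFreeOfRank_one, fun h x => ?_⟩
  obtain ⟨U, hx, ⟨t⟩⟩ := h x
  exact ⟨U, hx, ⟨t ≪≫ freeOneIso _⟩⟩

/-- invertible modules are finite locally free -/
theorem isFinLocFree_of_isInvertible {L : X.Modules} (hL : PicF.IsInvertible L) :
    FlatMod.IsFinLocFree L := fun x => by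
  obtain ⟨U, hx, ht⟩ := isFinLocFreeOfRank_one hL x
  exact ⟨U, 1, hx, ht⟩

/-- quasi-coherence is invariant under isomorphism -/
theorem isQCoh_of_iso {M N : X.Modules} (e : M ≅ N) (h : Coh.IsQCoh M) : Coh.IsQCoh N :=
  (SheafOfModules.isQuasicoherent X.ringCatSheaf).prop_of_iso e h

/-- the structure sheaf is quasi-coherent -/
theorem isQCoh_structureModule (X : Scheme.{u}) : Coh.IsQCoh (Coh.structureModule X) := by
  let F : X.Modules := SheafOfModules.free (R := X.ringCatSheaf) PUnit.{u + 1}
  have hF : F.IsQuasicoherent := inferInstanceAs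
    (SheafOfModules.free (R := X.ringCatSheaf) PUnit.{u + 1}).IsQuasicoherent
  exact (SheafOfModules.isQuasicoherent X.ringCatSheaf).prop_of_iso
    (coproductUniqueIso fun _ : PUnit.{u + 1} => SheafOfModules.unit X.ringCatSheaf) hF

/-- invertible modules are quasi-coherent -/
theorem isQCoh_of_isInvertible {L : X.Modules} (hL : PicF.IsInvertible L) : Coh.IsQCoh L := by
  choose U hU ht using hL
  exact QCohBase.isQuasicoherent_of_cover U (fun x => ⟨x, hU x⟩) fun x =>
    isQCoh_of_iso (ht x).some.symm (isQCoh_structureModule _)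

/-- tensoring by an invertible module preserves quasi-coherence -/
theorem isQCoh_tensorMod {L M : X.Modules} (hL : PicF.IsInvertible L) (hM : Coh.IsQCoh M) :
    Coh.IsQCoh (CohB1.tensorMod M L) := by
  choose U hU ht using hL
  refine QCohBase.isQuasicoherent_of_cover U (fun x => ⟨x, hU x⟩) fun x => ?_
  haveI : M.IsQuasicoherent := hM
  have hr : Coh.IsQCoh ((Scheme.Modules.restrictFunctor (U x).ι).obj M) := inferInstance
  exact isQCoh_of_iso (restrictTensorIso (U x).ι M L ≪≫ tensorIso (Iso.refl _) (ht x).some ≪≫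
    unitRightIso _).symm hr

/-- tensoring with an inverse pair is cancellable -/
noncomputable def tensorInverseIso {L L' : X.Modules}
    (e : CohB1.tensorMod L L' ≅ Coh.structureModule X) (M : X.Modules) :
    CohB1.tensorMod (CohB1.tensorMod M L) L' ≅ M :=
  assocIso M L L' ≪≫ tensorIso (Iso.refl M) e ≪≫ unitRightIso M

/-- inverses are symmetric -/
theorem isInverseOf_symm {L L' : X.Modules}
    (h : Nonempty (CohB1.tensorMod L L' ≅ Coh.structureModule X)) :
    Nonempty (CohB1.tensorMod L' L ≅ Coh.structureModule X) :=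
  h.map fun e => commIso L' L ≪≫ e

end Groth.Agent.TensorMod
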