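import Groth.Agent.TensorMod.Invertible
import Groth.Agent.QCohBase.FinitePresentation

/-!
# Finite locally free modules: formal properties
-/

universe u

open CategoryTheory CategoryTheory.Limits AlgebraicGeometry TopologicalSpace

namespace Groth.Agent.TensorMod

variable {X Y : Scheme.{u}}

/-- `O^n` as one of Mathlib's free modules -/
noncomputable def freeModIso (X : Scheme.{u}) (n : ℕ) :
    FlatMod.freeMod X n ≅ SheafOfModules.free (R := X.ringCatSheaf) (ULift.{u} (Fin n)) :=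
  (Sigma.whiskerEquiv (f := fun _ : Fin n => Coh.structureModule X)
    (g := fun _ : ULift.{u} (Fin n) => Coh.structureModule X) Equiv.ulift.symm
    (fun _ => Iso.refl _) :)

/-- restriction of `O^n` to an open -/
noncomputable def restrictFreeModIso (f : X ⟶ Y) [IsOpenImmersion f] (n : ℕ) :
    (FlatMod.freeMod Y n).restrict f ≅ FlatMod.freeMod X n :=
  PreservesCoproduct.iso (Scheme.Modules.restrictFunctor f) _ ≪≫
    Sigma.mapIso fun _ => Scheme.Modules.restrictUnitIso f

/-- pullback of `O^n` -/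
noncomputable def pullbackFreeModIso (f : X ⟶ Y) (n : ℕ) :
    (Scheme.Modules.pullback f).obj (FlatMod.freeMod Y n) ≅ FlatMod.freeMod X n :=
  PreservesCoproduct.iso (Scheme.Modules.pullback f) _ ≪≫
    Sigma.mapIso fun _ => PicLoc.pullbackStructureIso f

/-- pullback to an open of the base, as a restriction -/
noncomputable def pullbackRestrictIso (g : X ⟶ Y) (U : Y.Opens) (M : Y.Modules) :
    ((Scheme.Modules.pullback g).obj M).restrict (g ⁻¹ᵁ U).ι ≅
      (Scheme.Modules.pullback (g ∣_ U)).obj (M.restrict U.ι) :=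
  (Scheme.Modules.restrictFunctorIsoPullback (g ⁻¹ᵁ U).ι).app _ ≪≫
    ((Scheme.Modules.pullbackComp (g ⁻¹ᵁ U).ι g).app M) ≪≫
    (Scheme.Modules.pullbackCongr (morphismRestrict_ι g U).symm).app M ≪≫
    (Scheme.Modules.pullbackComp (g ∣_ U) U.ι).symm.app M ≪≫
    (Scheme.Modules.pullback (g ∣_ U)).mapIso
      ((Scheme.Modules.restrictFunctorIsoPullback U.ι).symm.app M)

/-- a free chart restricts to smaller opens -/
noncomputable def freeRestrict {U V : X.Opens} (h : V ≤ U) {M : X.Modules} {n : ℕ}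
    (e : M.restrict U.ι ≅ FlatMod.freeMod (U : Scheme.{u}) n) :
    M.restrict V.ι ≅ FlatMod.freeMod (V : Scheme.{u}) n :=
  (restrictLEIso h M).symm ≪≫ (Scheme.Modules.restrictFunctor (X.homOfLE h)).mapIso e ≪≫
    restrictFreeModIso (X.homOfLE h) n

theorem isFinLocFree_of_iso {M N : X.Modules} (e : M ≅ N) (h : FlatMod.IsFinLocFree M) :
    FlatMod.IsFinLocFree N := fun x => by
  obtain ⟨U, n, hx, ⟨t⟩⟩ := h x
  exact ⟨U, n, hx, ⟨(Scheme.Modules.restrictFunctor U.ι).mapIso e.symm ≪≫ t⟩⟩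

theorem isFinLocFreeOfRank_of_iso {M N : X.Modules} {n : ℕ} (e : M ≅ N)
    (h : FlatMod.IsFinLocFreeOfRank n M) : FlatMod.IsFinLocFreeOfRank n N := fun x => by
  obtain ⟨U, hx, ⟨t⟩⟩ := h x
  exact ⟨U, hx, ⟨(Scheme.Modules.restrictFunctor U.ι).mapIso e.symm ≪≫ t⟩⟩

theorem isFinLocFree_of_rank {M : X.Modules} {n : ℕ} (h : FlatMod.IsFinLocFreeOfRank n M) :
    FlatMod.IsFinLocFree M := fun x => by
  obtain ⟨U, hx, ht⟩ := h x
  exact ⟨U, n, hx, ht⟩

theorem isFinLocFreeOfRank_freeMod (X : Scheme.{u}) (n : ℕ) :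
    FlatMod.IsFinLocFreeOfRank n (FlatMod.freeMod X n) :=
  fun _ => ⟨⊤, trivial, ⟨restrictFreeModIso _ n⟩⟩

theorem isFinLocFree_freeMod (X : Scheme.{u}) (n : ℕ) :
    FlatMod.IsFinLocFree (FlatMod.freeMod X n) :=
  isFinLocFree_of_rank (isFinLocFreeOfRank_freeMod X n)

theorem isFinLocFree_pullback (g : X ⟶ Y) {M : Y.Modules} (h : FlatMod.IsFinLocFree M) :
    FlatMod.IsFinLocFree ((Scheme.Modules.pullback g).obj M) := fun x => by
  obtain ⟨U, n, hx, ⟨t⟩⟩ := h (g.base x)
  exact ⟨g ⁻¹ᵁ U, n, hx, ⟨pullbackRestrictIso g U M ≪≫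
    (Scheme.Modules.pullback (g ∣_ U)).mapIso t ≪≫ pullbackFreeModIso _ n⟩⟩

theorem isFinLocFreeOfRank_pullback (g : X ⟶ Y) {M : Y.Modules} {n : ℕ}
    (h : FlatMod.IsFinLocFreeOfRank n M) :
    FlatMod.IsFinLocFreeOfRank n ((Scheme.Modules.pullback g).obj M) := fun x => by
  obtain ⟨U, hx, ⟨t⟩⟩ := h (g.base x)
  exact ⟨g ⁻¹ᵁ U, hx, ⟨pullbackRestrictIso g U M ≪≫
    (Scheme.Modules.pullback (g ∣_ U)).mapIso t ≪≫ pullbackFreeModIso _ n⟩⟩

theorem isFinLocFree_restrict (f : X ⟶ Y) [IsOpenImmersion f] {M : Y.Modules}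
    (h : FlatMod.IsFinLocFree M) : FlatMod.IsFinLocFree (M.restrict f) :=
  isFinLocFree_of_iso ((Scheme.Modules.restrictFunctorIsoPullback f).app M).symm
    (isFinLocFree_pullback f h)

theorem isFinLocFreeOfRank_restrict (f : X ⟶ Y) [IsOpenImmersion f] {M : Y.Modules} {n : ℕ}
    (h : FlatMod.IsFinLocFreeOfRank n M) : FlatMod.IsFinLocFreeOfRank n (M.restrict f) :=
  isFinLocFreeOfRank_of_iso ((Scheme.Modules.restrictFunctorIsoPullback f).app M).symm
    (isFinLocFreeOfRank_pullback f h)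

/-- the tautological presentation of a free module -/
noncomputable def freePresentation (X : Scheme.{u}) (I : Type u) :
    (SheafOfModules.free (R := X.ringCatSheaf) I).Presentation :=
  SheafOfModules.presentationOfIsCokernelFree
    (0 : SheafOfModules.free (R := X.ringCatSheaf) PEmpty.{u + 1} ⟶ SheafOfModules.free I)
    (𝟙 _) zero_comp (CokernelCofork.IsColimit.ofId _ rfl)

theorem isFP_of_isFinLocFree {M : X.Modules} (h : FlatMod.IsFinLocFree M) : CohB1.IsFP M := by
  show SheafOfModules.IsFinitePresentation (R := X.ringCatSheaf) M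
  choose U n hU ht using h
  let P : ∀ x, SheafOfModules.Presentation (SheafOfModules.over M (U x)) := fun x =>
    QCohBase.presentationOver (U x)
      (SheafOfModules.Presentation.ofIsIso.{u, u, u}
        ((freeModIso _ (n x)).symm ≪≫ (ht x).some.symm).hom (freePresentation _ _))
  let σ : SheafOfModules.QuasicoherentData.{u, u, u} M :=
    { I := X
      X := U
      coversTop := (Opens.coversTop_iff X.toTopCat _).2
        (top_le_iff.1 fun x _ => Opens.mem_iSup.2 ⟨x, hU x⟩)
      presentation := P }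
  constructor
  refine ⟨σ, ?_⟩
  constructor
  intro x
  exact { isFiniteType_generators := ⟨inferInstanceAs (Finite (ULift.{u} (Fin (n x))))⟩
          isFiniteType_relations := ⟨inferInstanceAs (Finite PEmpty.{u + 1})⟩ }

theorem isQCoh_of_isFinLocFree {M : X.Modules} (h : FlatMod.IsFinLocFree M) : Coh.IsQCoh M :=
  haveI := isFP_of_isFinLocFree h
  inferInstanceAs (SheafOfModules.IsQuasicoherent (R := X.ringCatSheaf) M)

theorem isCoh_of_isFinLocFree {M : X.Modules} (h : FlatMod.IsFinLocFree M) : Coh.IsCoh M :=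
  haveI := isFP_of_isFinLocFree h
  ⟨isQCoh_of_isFinLocFree h, inferInstanceAs (SheafOfModules.IsFiniteType (R := X.ringCatSheaf) M)⟩

theorem isFP_of_isInvertible {L : X.Modules} (h : PicF.IsInvertible L) : CohB1.IsFP L :=
  isFP_of_isFinLocFree (isFinLocFree_of_isInvertible h)

theorem isCoh_of_isInvertible {L : X.Modules} (h : PicF.IsInvertible L) : Coh.IsCoh L :=
  isCoh_of_isFinLocFree (isFinLocFree_of_isInvertible h)

/-- tensoring a finite locally free module with an invertible one -/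
theorem isFinLocFree_tensorMod_invertible {M L : X.Modules} (hM : FlatMod.IsFinLocFree M)
    (hL : PicF.IsInvertible L) : FlatMod.IsFinLocFree (CohB1.tensorMod M L) := fun x => by
  obtain ⟨U, n, hx, ⟨s⟩⟩ := hM x
  obtain ⟨V, hxV, hVU, ⟨t⟩⟩ := exists_triv_le hL hx
  exact ⟨V, n, hxV, ⟨restrictTensorIso V.ι M L ≪≫ tensorIso (freeRestrict hVU s) t ≪≫
    unitRightIso _⟩⟩

end Groth.Agent.TensorMod
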