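import Groth.Agent.TensorMod.Invertible
import Groth.Agent.SiteBase.ModHom
import Groth.Prelude.Def_ClSub2

/-!
# The inverse of an invertible module
-/

universe u

open CategoryTheory CategoryTheory.Limits AlgebraicGeometry TopologicalSpace Opposite

namespace Groth.Agent.TensorMod

variable {X : Scheme.{u}}

instance hasSheafHom (L : X.Modules) : ModSite.HasSheafHom (O := X.sheaf) L :=
  SiteBase.hasSheafHom (O := X.sheaf) L

/-- the dual `Hom(L, O)` -/
noncomputable def dual (L : X.Modules) : X.Modules :=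
  (ModSite.sheafHom (O := X.sheaf) L).obj (ModSite.unit X.sheaf)

/-- evaluation -/
noncomputable def evalDual (L : X.Modules) :
    CohB1.tensorMod (dual L) L ⟶ Coh.structureModule X :=
  (ModSite.sheafHomAdj (O := X.sheaf) L).counit.app (ModSite.unit X.sheaf)

/-- a trivialisation in terms of the over site -/
noncomputable def overTriv {M : X.Modules} {U : X.Opens}
    (e : M.restrict U.ι ≅ Coh.structureModule (U : Scheme.{u})) :
    (ModSite.restr X.sheaf U).obj M ≅ ModSite.unit (X.sheaf.over U) :=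
  let E := Scheme.Modules.overEquiv U
  let η : E.inverse.obj (Coh.structureModule (U : Scheme.{u})) ≅
      SheafOfModules.unit (X.ringCatSheaf.over U) :=
    (E.inverse.mapIso ((Scheme.Modules.overFunctorEquiv U).app (SheafOfModules.unit X.ringCatSheaf) ≪≫
      Scheme.Modules.restrictUnitIso U.ι)).symm ≪≫ (E.unitIso.app _).symm
  E.unitIso.app _ ≪≫ E.inverse.mapIso ((Scheme.Modules.overFunctorEquiv U).app M ≪≫ e) ≪≫ η

/-- conversely -/
noncomputable def trivOfOver {M : X.Modules} {U : X.Opens}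
    (e : (ModSite.restr X.sheaf U).obj M ≅ ModSite.unit (X.sheaf.over U)) :
    M.restrict U.ι ≅ Coh.structureModule (U : Scheme.{u}) :=
  ((Scheme.Modules.overFunctorEquiv U).app M).symm ≪≫
    (Scheme.Modules.overEquiv U).functor.mapIso e ≪≫
    (Scheme.Modules.overFunctorEquiv U).app (SheafOfModules.unit X.ringCatSheaf) ≪≫
    Scheme.Modules.restrictUnitIso U.ι

/-- the unit section -/
noncomputable def oneSect (U : X.Opens) : ModSite.sect (ModSite.unit X.sheaf) U :=
  (1 : X.sheaf.obj.obj (op U))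

variable {C : Type u} [SmallCategory C] {J : GrothendieckTopology C}

/-- `Hom(M, O) ≅ O` for `M ≅ O` -/
noncomputable def sheafHomUnitIso {O : Sheaf J CommRingCat.{u}} {M : ModSite.Mod O}
    [ModSite.HasSheafHom M] (e : M ≅ ModSite.unit O) :
    (ModSite.sheafHom M).obj (ModSite.unit O) ≅ ModSite.unit O :=
  let i : (ModSite.tensorBi O).flip.obj M ≅ 𝟭 _ :=
    (ModSite.tensorBi O).flip.mapIso e ≪≫ SiteBase.tensorUnitObjIso O
  (((ModSite.sheafHomAdj M).ofNatIsoLeft i).rightAdjointUniq Adjunction.id).app (ModSite.unit O)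

theorem isInvertible_dual {L : X.Modules} (hL : PicF.IsInvertible L) :
    PicF.IsInvertible (dual L) := fun x => by
  obtain ⟨U, hx, ⟨t⟩⟩ := hL x
  haveI : ModSite.HasSheafHom ((ModSite.restr X.sheaf U).obj L) := SiteBase.hasSheafHom _
  exact ⟨U, hx, ⟨trivOfOver ((SiteBase.restrSheafHomIso (O := X.sheaf) U L).app (ModSite.unit X.sheaf)
    ≪≫ sheafHomUnitIso (overTriv t))⟩⟩

/-- the evaluation is an epimorphism -/
theorem epi_evalDual {L : X.Modules} (hL : PicF.IsInvertible L) : Epi (evalDual L) := by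
  refine Preadditive.epi_of_cancel_zero _ fun {S} g hg => ?_
  choose U hU ht using hL
  have hzero : ∀ x, (SiteBase.freeOnEquiv (O := X.sheaf) (U x) (ModSite.unit X.sheaf)).symm
      (oneSect (U x)) ≫ g = 0 := by
    intro x
    let p := (SiteBase.freeOnEquiv (O := X.sheaf) (U x) (ModSite.unit X.sheaf)).symm
      (oneSect (U x))
    let i : ((ModSite.tensorBi X.sheaf).flip.obj L).obj (ModSite.freeOn X.sheaf (U x)) ≅
        ModSite.freeOn X.sheaf (U x) :=
      SiteBase.freeOnTensorIso (O := X.sheaf) (U x) L ≪≫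
        (ModSite.extZero X.sheaf (U x)).mapIso (overTriv (ht x).some)
    let s := (ModSite.sheafHomAdj (O := X.sheaf) L).homEquiv _ _ (i.hom ≫ p)
    have hs : ((ModSite.tensorBi X.sheaf).flip.obj L).map s ≫ evalDual L = i.hom ≫ p :=
      ((ModSite.sheafHomAdj (O := X.sheaf) L).homEquiv_counit _ _ s).symm.trans
        (((ModSite.sheafHomAdj (O := X.sheaf) L).homEquiv _ _).symm_apply_apply _)
    refine (cancel_epi i.hom).1 ?_
    rw [← Category.assoc, ← hs, Category.assoc]
    exact ((congrArg (fun q => _ ≫ q) hg).trans comp_zero).trans comp_zero.symm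
  have h1 : ∀ x, g.val.app (op (U x)) (oneSect (U x)) = 0 := by
    intro x
    have h := congrArg (SiteBase.freeOnEquiv (O := X.sheaf) (U x) S) (hzero x)
    have h2 : SiteBase.freeOnEquiv (O := X.sheaf) (U x) S
        ((SiteBase.freeOnEquiv (O := X.sheaf) (U x) (ModSite.unit X.sheaf)).symm (oneSect (U x)) ≫ g) =
        g.val.app (op (U x)) (SiteBase.freeOnEquiv (O := X.sheaf) (U x) (ModSite.unit X.sheaf)
          ((SiteBase.freeOnEquiv (O := X.sheaf) (U x) (ModSite.unit X.sheaf)).symm (oneSect (U x)))) := by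
      show (((ModSite.extZeroAdj X.sheaf (U x)).homEquiv _ _) (_ ≫ g)).val.app _ _ = _
      rw [Adjunction.homEquiv_naturality_right]
      rfl
    rw [AddEquiv.apply_symm_apply] at h2
    exact h2.symm.trans (h.trans (map_zero _))
  refine (SheafOfModules.unitHomEquiv _).injective ?_
  refine PresheafOfModules.sections_ext _ _ fun W => ?_
  refine TopCat.Sheaf.eq_of_locally_eq' ((SheafOfModules.toSheaf _).obj S)
    (fun x => U x ⊓ W.unop) W.unop (fun x => homOfLE inf_le_right) ?_ _ _ fun x => ?_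
  · exact fun y hy => Opens.mem_iSup.2 ⟨y, hU y, hy⟩
  have hL := ((SheafOfModules.unitHomEquiv S g).property (homOfLE (inf_le_left : U x ⊓ W.unop ≤ U x)).op)
  have hR := ((SheafOfModules.unitHomEquiv S g).property (homOfLE (inf_le_right : U x ⊓ W.unop ≤ W.unop)).op)
  show S.val.map _ ((SheafOfModules.unitHomEquiv S g).val W) =
    S.val.map _ ((SheafOfModules.unitHomEquiv S 0).val W)
  refine hR.trans (hL.symm.trans ?_)
  refine ((congrArg (S.val.map _).hom (h1 x)).trans (map_zero _)).trans ?_
  exact (map_zero _).symm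

/-- an epimorphic endomorphism of the structure sheaf is an isomorphism -/
theorem isIso_of_epi_structureModule (φ : Coh.structureModule X ⟶ Coh.structureModule X) [Epi φ] :
    IsIso φ := by
  let a : ∀ U : X.Opens, Γ(X, U) := fun U => (SheafOfModules.unitHomEquiv _ φ).val (op U)
  have hlin : ∀ (U : X.Opens) (r : Γ(X, U)), φ.val.app (op U) r = r * a U := fun U r =>
    (congrArg (φ.val.app (op U)) (mul_one r).symm).trans
      (map_smul (φ.val.app (op U)).hom r (oneSect U))
  have hsurj : Sheaf.IsLocallySurjective ((SheafOfModules.toSheaf X.ringCatSheaf).map φ) := by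
    rw [Sheaf.isLocallySurjective_iff_epi']
    haveI : @Epi (SheafOfModules X.ringCatSheaf) _ _ _ φ := ‹Epi φ›
    exact @Functor.map_epi _ _ _ _ (SheafOfModules.toSheaf X.ringCatSheaf) _ _ _ φ this
  have hunit : ∀ U : X.Opens, IsUnit (a U) := fun U => by
    refine X.toRingedSpace.isUnit_of_isUnit_germ U _ fun x hx => ?_
    obtain ⟨V, i, ⟨r, hr⟩, hxV⟩ := hsurj.imageSieve_mem (U := U) (1 : Γ(X, U)) x hx
    refine (TopCat.Presheaf.germ_res_apply X.presheaf i x hxV (a U)) ▸ ?_
    refine IsUnit.map _ ?_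
    rw [show X.presheaf.map i.op (a U) = a V from (SheafOfModules.unitHomEquiv _ φ).property i.op]
    refine IsUnit.of_mul_eq_one_right r ?_
    exact (hlin V r).symm.trans (hr.trans (map_one (X.presheaf.map i.op).hom))
  have happ : ∀ U : X.Opens, IsIso (φ.app U) := fun U => by
    rw [ConcreteCategory.isIso_iff_bijective]
    refine ⟨fun r s h => ?_, fun r => ?_⟩
    · exact (hunit U).mul_left_injective ((hlin U r).symm.trans (h.trans (hlin U s)))
    · obtain ⟨b, hb⟩ := (hunit U).exists_left_inv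
      exact ⟨(show Γ(X, U) from r) * b, (hlin U _).trans
        (show (show Γ(X, U) from r) * b * a U = (show Γ(X, U) from r) by rw [mul_assoc, hb, mul_one])⟩
  exact Scheme.Modules.Hom.isIso_iff_isIso_app.2 happ

/-- an epimorphism of invertible modules is an isomorphism -/
theorem isIso_of_epi_invertible {L M : X.Modules} (hL : PicF.IsInvertible L) (hM : PicF.IsInvertible M)
    (φ : L ⟶ M) [Epi φ] : IsIso φ := by
  rw [Scheme.Modules.Hom.isIso_iff_isIso_app]
  intro W
  have hloc : ∀ x : X, ∃ V : X.Opens, x ∈ V ∧ IsIso ((Scheme.Modules.restrictFunctor V.ι).map φ) := by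
    intro x
    obtain ⟨U, hx, ⟨s⟩⟩ := hL x
    obtain ⟨V, hxV, hVU, ⟨t⟩⟩ := exists_triv_le hM hx
    refine ⟨V, hxV, ?_⟩
    haveI : Epi ((Scheme.Modules.restrictFunctor V.ι).map φ) :=
      (Scheme.Modules.restrictFunctor V.ι).map_epi φ
    have := isIso_of_epi_structureModule
      ((trivRestrict hVU s).inv ≫ (Scheme.Modules.restrictFunctor V.ι).map φ ≫ t.hom)
    exact IsIso.of_isIso_comp_right _ t.hom |> fun h =>
      @IsIso.of_isIso_comp_left _ _ _ _ _ (trivRestrict hVU s).inv _ _ h
  choose V hxV hV using hloc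
  have hbij : ∀ (x : X) (T : X.Opens), T ≤ V x → Function.Bijective (φ.app T) := by
    intro x T hT
    have h := hV x
    rw [Scheme.Modules.Hom.isIso_iff_isIso_app] at h
    have h' := h ((V x).ι ⁻¹ᵁ T)
    rw [ConcreteCategory.isIso_iff_bijective] at h'
    have e : (V x).ι ''ᵁ ((V x).ι ⁻¹ᵁ T) = T := by
      rw [Scheme.Hom.image_preimage_eq_opensRange_inf, Scheme.Opens.opensRange_ι, inf_eq_right.2 hT]
    exact e ▸ h'
  rw [ConcreteCategory.isIso_iff_bijective]
  refine ⟨fun a b hab => ?_, fun c => ?_⟩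
  · refine TopCat.Sheaf.eq_of_locally_eq' ⟨L.presheaf, L.isSheaf⟩
      (fun x => V x ⊓ W) W (fun x => homOfLE inf_le_right)
      (fun y hy => Opens.mem_iSup.2 ⟨y, hxV y, hy⟩) _ _ fun x => (hbij x _ inf_le_left).1 ?_
    have hn := φ.mapPresheaf.naturality (homOfLE (inf_le_right : V x ⊓ W ≤ W)).op
    have ha := ConcreteCategory.congr_hom hn a
    have hb := ConcreteCategory.congr_hom hn b
    exact ha.trans ((congrArg _ hab).trans hb.symm)
  · choose d hd using fun x => (hbij x (V x ⊓ W) inf_le_left).2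
      (M.presheaf.map (homOfLE (inf_le_right : V x ⊓ W ≤ W)).op c)
    have hcompat : TopCat.Presheaf.IsCompatible L.presheaf (fun x => V x ⊓ W) d := by
      intro x y
      refine (hbij x _ (inf_le_left.trans inf_le_left)).1 ?_
      have hx := ConcreteCategory.congr_hom
        (φ.mapPresheaf.naturality (Opens.infLELeft (V x ⊓ W) (V y ⊓ W)).op) (d x)
      have hy := ConcreteCategory.congr_hom
        (φ.mapPresheaf.naturality (Opens.infLERight (V x ⊓ W) (V y ⊓ W)).op) (d y)
      refine hx.trans (Eq.trans ?_ hy.symm)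
      show M.presheaf.map _ (φ.app _ (d x)) = M.presheaf.map _ (φ.app _ (d y))
      rw [hd x, hd y, ← ConcreteCategory.comp_apply, ← ConcreteCategory.comp_apply,
        ← Functor.map_comp, ← Functor.map_comp]
      rfl
    obtain ⟨s, hs, -⟩ := TopCat.Sheaf.existsUnique_gluing' ⟨L.presheaf, L.isSheaf⟩
      (fun x => V x ⊓ W) W (fun x => homOfLE inf_le_right)
      (fun y hy => Opens.mem_iSup.2 ⟨y, hxV y, hy⟩) d hcompat
    refine ⟨s, TopCat.Sheaf.eq_of_locally_eq' ⟨M.presheaf, M.isSheaf⟩
      (fun x => V x ⊓ W) W (fun x => homOfLE inf_le_right)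
      (fun y hy => Opens.mem_iSup.2 ⟨y, hxV y, hy⟩) _ _ fun x => ?_⟩
    have hn := ConcreteCategory.congr_hom
      (φ.mapPresheaf.naturality (homOfLE (inf_le_right : V x ⊓ W ≤ W)).op) s
    exact hn.symm.trans ((congrArg _ (hs x)).trans (hd x))

/-- `L^∨ ⊗ L ≅ O` -/
theorem isInverseOf_dual {L : X.Modules} (hL : PicF.IsInvertible L) :
    ClSub.IsInverseOf (dual L) L :=
  haveI := epi_evalDual hL
  haveI := isIso_of_epi_invertible (isInvertible_tensorMod (isInvertible_dual hL) hL)
    (PicLoc.isInvertible_structureModule X) (evalDual L)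
  ⟨asIso (evalDual L)⟩

/-- every invertible module has an invertible inverse -/
theorem exists_inverse {L : X.Modules} (hL : PicF.IsInvertible L) :
    ∃ M : X.Modules, PicF.IsInvertible M ∧ ClSub.IsInverseOf L M ∧ ClSub.IsInverseOf M L :=
  ⟨dual L, isInvertible_dual hL, isInverseOf_symm (isInverseOf_dual hL), isInverseOf_dual hL⟩

/-- inverses are unique -/
theorem nonempty_iso_of_inverse {L M M' : X.Modules} (h : ClSub.IsInverseOf L M)
    (h' : ClSub.IsInverseOf L M') : Nonempty (M ≅ M') := by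
  obtain ⟨e⟩ := isInverseOf_symm h'
  obtain ⟨e'⟩ := h
  exact ⟨(unitLeftIso M).symm ≪≫ tensorIso e.symm (Iso.refl M) ≪≫ assocIso M' L M ≪≫
    tensorIso (Iso.refl M') e' ≪≫ unitRightIso M'⟩

/-- the Picard group law exists -/
theorem nonempty_mul_inverse {L M N : X.Modules} (h : ClSub.IsInverseOf L M)
    (e : CohB1.tensorMod N L ≅ Coh.structureModule X) : Nonempty (N ≅ M) := by
  exact nonempty_iso_of_inverse (isInverseOf_symm ⟨e⟩) h

end Groth.Agent.TensorMod
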