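import Groth.Agent.TensorMod.Basic
import Mathlib.Algebra.Category.ModuleCat.Presheaf.PushforwardZeroMonoidal
import Mathlib.CategoryTheory.Sites.PreservesLocallyBijective
import Mathlib.Algebra.Category.ModuleCat.Monoidal.Adjunction

/-!
# Restriction along an open immersion commutes with sheafification and tensor products
-/

universe u

open CategoryTheory CategoryTheory.Limits AlgebraicGeometry MonoidalCategory Opposite TensorProduct

namespace Groth.Agent.TensorMod

variable {X Y : Scheme.{u}} (f : X ⟶ Y) [IsOpenImmersion f]

/-- `O_X ⟶ f⁻¹ O_Y` for an open immersion -/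
noncomputable def openHom : X.presheaf ⟶ f.opensFunctor.op ⋙ Y.presheaf where
  app U := (f.appIso U.unop).inv

/-- restriction of presheaves of modules along an open immersion -/
noncomputable abbrev preRestrict : CohB1.PMod Y ⥤ CohB1.PMod X :=
  PresheafOfModules.pushforward (F := f.opensFunctor)
    (Functor.whiskerRight (openHom f) (forget₂ CommRingCat.{u} RingCat.{u}))

lemma restrict_toPMod (M : Y.Modules) :
    CohB1.toPMod (M.restrict f) = (preRestrict f).obj (CohB1.toPMod M) := rfl

/-- the canonical map `(P|X)^# ⟶ P^#|X` -/
noncomputable def shRestrictMap (P : CohB1.PMod Y) :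
    (sh X).obj ((preRestrict f).obj P) ⟶ ((sh Y).obj P).restrict f :=
  ((shAdj X).homEquiv _ _).symm ((preRestrict f).map ((shAdj Y).unit.app P))

lemma unit_comp_shRestrictMap (P : CohB1.PMod Y) :
    (shAdj X).unit.app _ ≫ (incl X).map (shRestrictMap f P) =
      (preRestrict f).map ((shAdj Y).unit.app P) := by
  exact ((shAdj X).homEquiv_unit _ _ (shRestrictMap f P)).symm.trans
    (((shAdj X).homEquiv _ _).apply_symm_apply _)

theorem isIso_shRestrictMap (P : CohB1.PMod Y) : IsIso (shRestrictMap f P) := by
  let J := Opens.grothendieckTopology X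
  let a := (PresheafOfModules.toPresheaf _).map ((shAdj X).unit.app ((preRestrict f).obj P))
  let g := (PresheafOfModules.toPresheaf _).map ((incl X).map (shRestrictMap f P))
  let b := Functor.whiskerLeft f.opensFunctor.op
    ((PresheafOfModules.toPresheaf _).map ((shAdj Y).unit.app P))
  have fac : a ≫ g = b :=
    ((PresheafOfModules.toPresheaf _).map_comp _ _).symm.trans
      ((PresheafOfModules.toPresheaf _).congr_map (unit_comp_shRestrictMap f P))
  haveI : Presheaf.IsLocallyInjective (Opens.grothendieckTopology Y)
      ((PresheafOfModules.toPresheaf _).map ((shAdj Y).unit.app P)) :=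
    SiteBase.isLocallyInjective_unit (O := Y.sheaf) P
  haveI : Presheaf.IsLocallySurjective (Opens.grothendieckTopology Y)
      ((PresheafOfModules.toPresheaf _).map ((shAdj Y).unit.app P)) :=
    SiteBase.isLocallySurjective_unit (O := Y.sheaf) P
  haveI : Presheaf.IsLocallyInjective J a :=
    SiteBase.isLocallyInjective_unit (O := X.sheaf) _
  haveI : Presheaf.IsLocallySurjective J a :=
    SiteBase.isLocallySurjective_unit (O := X.sheaf) _
  have hag₁ : Presheaf.IsLocallyInjective J (a ≫ g) := by
    rw [fac]; exact Presheaf.isLocallyInjective_whisker J (Opens.grothendieckTopology Y) f.opensFunctor _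
  have hag₂ : Presheaf.IsLocallySurjective J (a ≫ g) := by
    rw [fac]; exact Presheaf.isLocallySurjective_whisker J (Opens.grothendieckTopology Y) f.opensFunctor _
  have hg₁ : Presheaf.IsLocallyInjective J g :=
    Presheaf.isLocallyInjective_of_isLocallyInjective_of_isLocallySurjective J a g
  have hg₂ : Presheaf.IsLocallySurjective J g :=
    Presheaf.isLocallySurjective_of_isLocallySurjective J a g
  let G : ((SheafOfModules.toSheaf _).obj ((sh X).obj ((preRestrict f).obj P))) ⟶
      ((SheafOfModules.toSheaf _).obj (((sh Y).obj P).restrict f)) :=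
    (SheafOfModules.toSheaf _).map (shRestrictMap f P)
  have : IsIso G := (Sheaf.isLocallyBijective_iff_isIso G).mp ⟨hg₁, hg₂⟩
  have h : IsIso ((Scheme.Modules.toPresheaf X).map (shRestrictMap f P)) :=
    inferInstanceAs (IsIso ((sheafToPresheaf J AddCommGrpCat.{u}).map G))
  exact isIso_of_reflects_iso (shRestrictMap f P) (Scheme.Modules.toPresheaf X)

/-- sheafification commutes with restriction to an open -/
noncomputable def shRestrictIso (P : CohB1.PMod Y) :
    (sh X).obj ((preRestrict f).obj P) ≅ ((sh Y).obj P).restrict f :=
  @asIso _ _ _ _ (shRestrictMap f P) (isIso_shRestrictMap f P)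

section Scalars

open Functor.LaxMonoidal

variable {R S : CommRingCat.{u}} (φ : R ⟶ S) (hφ : Function.Surjective φ.hom)

include hφ in
theorem isIso_restrictScalars_μ (M N : ModuleCat.{u} S) :
    IsIso (μ (ModuleCat.restrictScalars φ.hom) M N) := by
  rw [ConcreteCategory.isIso_iff_bijective]
  let M' := (ModuleCat.restrictScalars φ.hom).obj M
  let N' := (ModuleCat.restrictScalars φ.hom).obj N
  let inv : (M ⊗[S] N) →+ (M' ⊗[R] N') := TensorProduct.liftAddHom
    { toFun := fun m =>
        { toFun := fun n => (show M' from m) ⊗ₜ[R] (show N' from n)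
          map_zero' := TensorProduct.tmul_zero _ _
          map_add' := fun _ _ => TensorProduct.tmul_add _ _ _ }
      map_zero' := AddMonoidHom.ext fun _ => TensorProduct.zero_tmul _ _
      map_add' := fun _ _ => AddMonoidHom.ext fun _ => TensorProduct.add_tmul _ _ _ }
    (fun s m n => by
      obtain ⟨r, rfl⟩ := hφ s
      exact TensorProduct.smul_tmul r (show M' from m) (show N' from n))
  have hl : ∀ x : M' ⊗[R] N', inv ((μ (ModuleCat.restrictScalars φ.hom) M N) x) = x := by
    intro x
    induction x using TensorProduct.induction_on with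
    | zero => exact (congrArg inv (map_zero _)).trans (map_zero inv)
    | tmul m n => exact congrArg inv (ModuleCat.restrictScalars_μ_tmul φ.hom M N m n)
    | add a b ha hb =>
      exact (congrArg inv (map_add _ a b)).trans ((map_add inv _ _).trans (congrArg₂ (· + ·) ha hb))
  refine ⟨Function.LeftInverse.injective hl, fun y => ?_⟩
  induction y using TensorProduct.induction_on with
  | zero => exact ⟨0, map_zero _⟩
  | tmul m n => exact ⟨(show M' from m) ⊗ₜ[R] (show N' from n),
      ModuleCat.restrictScalars_μ_tmul φ.hom M N m n⟩
  | add a b ha hb =>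
    obtain ⟨a', ha'⟩ := ha
    obtain ⟨b', hb'⟩ := hb
    exact ⟨a' + b', (map_add _ a' b').trans (congrArg₂ (· + ·) ha' hb')⟩

end Scalars

/-- restriction of presheaves of modules along an open immersion commutes with tensor products -/
noncomputable def preRestrictTensorIso (P Q : CohB1.PMod Y) :
    (preRestrict f).obj P ⊗ (preRestrict f).obj Q ≅ (preRestrict f).obj (P ⊗ Q) :=
  PresheafOfModules.isoMk
    (fun U => @asIso _ _ _ _
      (Functor.LaxMonoidal.μ (ModuleCat.restrictScalars ((openHom f).app U).hom)
        (P.obj (op (f ''ᵁ U.unop))) (Q.obj (op (f ''ᵁ U.unop))))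
      (isIso_restrictScalars_μ ((openHom f).app U)
        (ConcreteCategory.bijective_of_isIso (f.appIso U.unop).inv).2 _ _))
    (fun U V i => ModuleCat.MonoidalCategory.tensor_ext fun m n => by
      refine (ModuleCat.restrictScalars_μ_tmul ((openHom f).app V).hom _ _ _ _).trans ?_
      exact (congrArg (((preRestrict f).obj (P ⊗ Q)).map i).hom
        (ModuleCat.restrictScalars_μ_tmul ((openHom f).app U).hom _ _ m n)).symm)

/-- restriction to an open commutes with `tensorMod` -/
noncomputable def restrictTensorIso (M N : Y.Modules) :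
    (CohB1.tensorMod M N).restrict f ≅ CohB1.tensorMod (M.restrict f) (N.restrict f) :=
  (shRestrictIso f (CohB1.toPMod M ⊗ CohB1.toPMod N)).symm ≪≫
    (sh X).mapIso (preRestrictTensorIso f (CohB1.toPMod M) (CohB1.toPMod N)).symm

/-- restriction to an open commutes with tensor powers -/
noncomputable def restrictPowIso (L : Y.Modules) :
    ∀ n : ℕ, (CohB1.tensorPow L n).restrict f ≅ CohB1.tensorPow (L.restrict f) n
  | 0 => Scheme.Modules.restrictUnitIso f
  | n + 1 => restrictTensorIso f (CohB1.tensorPow L n) L ≪≫
      tensorIso (restrictPowIso L n) (Iso.refl _)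

end Groth.Agent.TensorMod
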