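import Groth.Prelude.Def_CohB1
import Groth.Agent.SiteBase.ModTensor

/-!
# The tensor product `CohB1.tensorMod` of sheaves of modules on a scheme:
functoriality, symmetry, unit and associativity isomorphisms.
-/

universe u

open CategoryTheory CategoryTheory.Limits AlgebraicGeometry MonoidalCategory Opposite

namespace Groth.Agent.TensorMod

variable {X : Scheme.{u}}

/-- sheafification, on presheaves of modules carrying the monoidal structure -/
noncomputable abbrev sh (X : Scheme.{u}) : CohB1.PMod X ⥤ X.Modules := CohB1.sheafifyMod X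

/-- the forgetful functor to presheaves of modules carrying the monoidal structure -/
noncomputable abbrev incl (X : Scheme.{u}) : X.Modules ⥤ CohB1.PMod X :=
  Scheme.Modules.toPresheafOfModules X

/-- the sheafification adjunction -/
noncomputable def shAdj (X : Scheme.{u}) : sh X ⊣ incl X := SiteBase.shAdj X.sheaf

/-- `(M)^# ≅ M` for a sheaf `M` -/
noncomputable def shInclIso (M : X.Modules) : (sh X).obj (CohB1.toPMod M) ≅ M :=
  haveI : IsIso (shAdj X).counit := SiteBase.isIso_shAdj_counit (O := X.sheaf)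
  (asIso (shAdj X).counit).app M

/-- the tensor product of morphisms -/
noncomputable def tensorMap {M M' N N' : X.Modules} (f : M ⟶ M') (g : N ⟶ N') :
    CohB1.tensorMod M N ⟶ CohB1.tensorMod M' N' :=
  (sh X).map ((incl X).map f ⊗ₘ (incl X).map g)

@[simp]
lemma tensorMap_id (M N : X.Modules) : tensorMap (𝟙 M) (𝟙 N) = 𝟙 (CohB1.tensorMod M N) := by
  have h₁ : (incl X).map (𝟙 M) = 𝟙 _ := (incl X).map_id M
  have h₂ : (incl X).map (𝟙 N) = 𝟙 _ := (incl X).map_id N
  exact ((sh X).congr_map ((congrArg₂ (fun a b => a ⊗ₘ b) h₁ h₂).trans (id_tensorHom_id _ _))).trans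
    ((sh X).map_id _)

lemma tensorMap_comp {M M' M'' N N' N'' : X.Modules} (f : M ⟶ M') (f' : M' ⟶ M'')
    (g : N ⟶ N') (g' : N' ⟶ N'') :
    tensorMap (f ≫ f') (g ≫ g') = tensorMap f g ≫ tensorMap f' g' := by
  exact ((sh X).congr_map ((congrArg₂ (fun a b => a ⊗ₘ b) ((incl X).map_comp f f')
    ((incl X).map_comp g g')).trans (tensorHom_comp_tensorHom _ _ _ _).symm)).trans
    ((sh X).map_comp _ _)

/-- the tensor product as a bifunctor in the first variable -/
@[simps]
noncomputable def tensorRightFunctor (N : X.Modules) : X.Modules ⥤ X.Modules where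
  obj M := CohB1.tensorMod M N
  map f := tensorMap f (𝟙 N)
  map_id M := tensorMap_id M N
  map_comp f g := by rw [← tensorMap_comp, Category.comp_id]

/-- the tensor product of isomorphisms -/
@[simps]
noncomputable def tensorIso {M M' N N' : X.Modules} (e : M ≅ M') (e' : N ≅ N') :
    CohB1.tensorMod M N ≅ CohB1.tensorMod M' N' where
  hom := tensorMap e.hom e'.hom
  inv := tensorMap e.inv e'.inv
  hom_inv_id := by rw [← tensorMap_comp, e.hom_inv_id, e'.hom_inv_id, tensorMap_id]
  inv_hom_id := by rw [← tensorMap_comp, e.inv_hom_id, e'.inv_hom_id, tensorMap_id]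

/-- symmetry -/
noncomputable def commIso (M N : X.Modules) : CohB1.tensorMod M N ≅ CohB1.tensorMod N M :=
  (sh X).mapIso (β_ (CohB1.toPMod M) (CohB1.toPMod N))

/-- left unit -/
noncomputable def unitLeftIso (M : X.Modules) :
    CohB1.tensorMod (Coh.structureModule X) M ≅ M :=
  (sh X).mapIso (λ_ (CohB1.toPMod M)) ≪≫ shInclIso M

/-- right unit -/
noncomputable def unitRightIso (M : X.Modules) :
    CohB1.tensorMod M (Coh.structureModule X) ≅ M :=
  (sh X).mapIso (ρ_ (CohB1.toPMod M)) ≪≫ shInclIso M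

/-- sheafification may be applied before tensoring on the left -/
noncomputable def shTensorLeft (P : CohB1.PMod X) (N : X.Modules) :
    (sh X).obj (P ⊗ CohB1.toPMod N) ≅ CohB1.tensorMod ((sh X).obj P) N :=
  @asIso _ _ _ _ ((sh X).map ((shAdj X).unit.app P ▷ CohB1.toPMod N))
    (SiteBase.isIso_sh_map_whiskerRight (O := X.sheaf) ((SiteBase.shAdj X.sheaf).unit.app P) _)

/-- sheafification may be applied before tensoring on the right -/
noncomputable def shTensorRight (M : X.Modules) (P : CohB1.PMod X) :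
    (sh X).obj (CohB1.toPMod M ⊗ P) ≅ CohB1.tensorMod M ((sh X).obj P) :=
  (sh X).mapIso (β_ _ _) ≪≫ shTensorLeft P M ≪≫ commIso _ _

/-- associativity -/
noncomputable def assocIso (M N K : X.Modules) :
    CohB1.tensorMod (CohB1.tensorMod M N) K ≅ CohB1.tensorMod M (CohB1.tensorMod N K) :=
  (shTensorLeft (CohB1.toPMod M ⊗ CohB1.toPMod N) K).symm ≪≫
    (sh X).mapIso (α_ _ _ _) ≪≫ shTensorRight M (CohB1.toPMod N ⊗ CohB1.toPMod K)

/-- `L^{⊗1} ≅ L` -/
noncomputable def tensorPowOneIso (L : X.Modules) : CohB1.tensorPow L 1 ≅ L := unitLeftIso L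

/-- `L^{⊗(m+n)} ≅ L^{⊗m} ⊗ L^{⊗n}` -/
noncomputable def tensorPowAddIso (L : X.Modules) (m : ℕ) :
    ∀ n : ℕ, CohB1.tensorPow L (m + n) ≅ CohB1.tensorMod (CohB1.tensorPow L m) (CohB1.tensorPow L n)
  | 0 => (unitRightIso _).symm
  | n + 1 => tensorIso (tensorPowAddIso L m n) (Iso.refl L) ≪≫ assocIso _ _ _

/-- tensor powers of isomorphic modules -/
noncomputable def tensorPowCongr {L L' : X.Modules} (e : L ≅ L') :
    ∀ n : ℕ, CohB1.tensorPow L n ≅ CohB1.tensorPow L' n
  | 0 => Iso.refl _
  | n + 1 => tensorIso (tensorPowCongr e n) e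

/-- `(L^{⊗m})^{⊗n} ≅ L^{⊗(m n)}` -/
noncomputable def tensorPowMulIso (L : X.Modules) (m : ℕ) :
    ∀ n : ℕ, CohB1.tensorPow (CohB1.tensorPow L m) n ≅ CohB1.tensorPow L (m * n)
  | 0 => Iso.refl _
  | n + 1 => tensorIso (tensorPowMulIso L m n) (Iso.refl _) ≪≫
      (tensorPowAddIso L (m * n) m).symm

end Groth.Agent.TensorMod
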